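import Cfsg.Agent.H621.SY.Psl
import Cfsg.Agent.H301.SY.Rep

/-!
# S3846, row `PSL_n(q)` (task 1514, helper621): the row
-/

set_option autoImplicit false

namespace Cfsg.Agent.H621.SYPsl

open Matrix Cfsg.Agent.H301.SY Cfsg.Agent.H459.Iface Cfsg.Agent.H459.Rad

/-- the natural representation of `SL_n(F)` -/
noncomputable def nat (F : Type) [Field F] (n : ℕ) : Representation F (SpecialLinearGroup (Fin n) F) (Fin n → F) where
  toFun g := Matrix.toLin' g.1
  map_one' := Matrix.toLin'_one
  map_mul' g h := Matrix.toLin'_mul g.1 h.1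

theorem nat_inj (F : Type) [Field F] (n : ℕ) : Function.Injective (nat F n) := by
  intro g h e
  exact Subtype.ext (Matrix.toLin'.injective e)

theorem crow_psl (hh : Cfsg.Agent.H301.SY.HH) {K : Type*} [Group K] [Finite K] [IsSimpleGroup K] {F : Type} [Field F]
    [Fintype F] {n r p : ℕ} [Fact r.Prime] [Fact p.Prime] [CharP F r] (_hn : 3 ≤ n)
    (e : Nonempty (K ≃* Matrix.ProjectiveSpecialLinearGroup (Fin n) F)) (hp : 5 ≤ p) (hpr : p ≠ r) :
    Cfsg.Agent.H301.SY.CRow r p K := by
  obtain ⟨e⟩ := e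
  refine CRow.congr e ?_
  refine crow_of hp fun hnp x hx hcyc hF => ?_
  exact m0_of_rep (E := SpecialLinearGroup (Fin n) F) (k := F) (V := Fin n → F) hh
    (QuotientGroup.mk' _) (QuotientGroup.mk'_surjective _) (by rw [QuotientGroup.ker_mk']) (nat F n) (nat_inj F n)
    hpr (by rw [Module.finrank_fin_fun]; exact hnp) hcyc hx hF

end Cfsg.Agent.H621.SYPsl
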