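import Cfsg.Agent.H301.SY.Spor
import Cfsg.Agent.H370.Spec
import Cfsg.Agent.Lib.PSolvable
import Cfsg.Agent.J4Type.Aut22
import Cfsg.Agent.Leech.HSConfig
import Cfsg.Agent.SporadicA.M24Trans
import Cfsg.Agent.SporadicA.MathieuRecog
import Cfsg.Agent.S2037
import Cfsg.Agent.S0366
import Cfsg.Agent.FooteOdd.SporMEleven
import Cfsg.Agent.MTwelveType.SylowModel

/-!
# S3846: the rows `M12`, `M22`, `M23`, `M24` (tasks 1926-1929, helper621)
-/

set_option autoImplicit false
set_option linter.unusedSectionVars false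

namespace Cfsg.Agent.H621.SYMathieu

open Subgroup Cfsg Cfsg.Agent.H301.SY Cfsg.Agent.H459.Rad MulAction

/-! ### generic tools -/

section Gen

/-- `p ∤ |K|` -/
theorem noE_of_not_dvd {K : Type*} [Group K] {p : ℕ} (h : ¬ p ∣ Nat.card K) : NoE p K :=
  fun x hx _ _ => h (hx ▸ orderOf_dvd_natCard x)

theorem mem_of_dvd {p : ℕ} (hp : p.Prime) : ∀ (L : List (ℕ × ℕ)), (∀ a ∈ L, a.1.Prime) →
    p ∣ (L.map fun a => a.1 ^ a.2).prod → p ∈ L.map Prod.fst := by
  intro L hL h
  obtain ⟨a, ha, h1⟩ := (hp.prime.dvd_prod_iff).1 h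
  obtain ⟨b, hb, rfl⟩ := List.mem_map.1 ha
  rw [List.mem_map]
  refine ⟨b, hb, ?_⟩
  exact ((Nat.prime_dvd_prime_iff_eq hp (hL b hb)).1 (hp.dvd_of_dvd_pow h1)).symm

/-- the order condition -/
theorem no_pow {p t N b : ℕ} (hb : ¬ t ^ (b + 1) ∣ N) (h : ∀ i, i < b + 1 → 0 < i → ¬ t ^ i ≡ 1 [MOD p]) :
    ∀ i : ℕ, 0 < i → t ^ i ∣ N → ¬ t ^ i ≡ 1 [MOD p] := by
  intro i hi hd
  refine h i ?_ hi
  by_contra hlt
  exact hb ((pow_dvd_pow t (by omega)).trans hd)

theorem not_comm {K : Type*} [Group K] [Finite K] [IsSimpleGroup K] {N : ℕ} (hc : Nat.card K = N)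
    (hN : ¬ N.Prime) : ¬ IsMulCommutative K := by
  intro h
  apply hN
  rw [← hc]
  let : CommGroup K := { (inferInstance : Group K) with mul_comm := fun a b => h.is_comm.comm a b }
  exact IsSimpleGroup.prime_card

theorem not_solvable {K : Type*} [Group K] [Finite K] [IsSimpleGroup K] {N : ℕ} (hc : Nat.card K = N)
    (hN : ¬ N.Prime) : ¬ Group.IsSolvable K := by
  intro h
  apply not_comm hc hN
  exact ⟨⟨fun a b => (IsSimpleGroup.comm_iff_isSolvable.2 h) a b⟩⟩

/-- a nontrivial solvable normal subgroup gives a nontrivial normal `q`-subgroup -/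
theorem exists_qgroup {G : Type*} [Group G] [Finite G] (h : solvableRadical G ≠ ⊥) :
    ∃ q : ℕ, q.Prime ∧ ∃ N : Subgroup G, N.Normal ∧ N ≠ ⊥ ∧ IsPGroup q N := by
  obtain ⟨q, hq, h1⟩ := Cfsg.Agent.H370.exists_core (L := solvableRadical G) (rad_spec G).2.1 h
  have h2 : (pCore q (solvableRadical G)).Characteristic := Cfsg.Agent.Lib.PSolvable.pCore_characteristic q
  refine ⟨q, hq, _, ?_, h1, ?_⟩
  · exact (inferInstance : ((pCore q (solvableRadical G)).map (solvableRadical G).subtype).Normal)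
  · have : Fact q.Prime := ⟨hq⟩
    exact Cfsg.Agent.H370.pCoreOf_isPGroup

end Gen

/-! ### the stabiliser of a point in `M22` -/

/-- the remaining points -/
def Rest : Set GolayPt := {x | x ≠ none ∧ x ≠ some 0 ∧ x ≠ some 1}

theorem ncard_rest : Rest.ncard = 21 := by
  have h : Rest = ((Finset.univ.filter fun x : GolayPt => x ≠ none ∧ x ≠ some 0 ∧ x ≠ some 1 : Finset GolayPt) : Set GolayPt) := by
    ext x
    simp [Rest]
  rw [h, Set.ncard_coe_finset]
  decide

/-- the point stabiliser -/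
abbrev L : Subgroup Spor.M22 := stabilizer Spor.M22 (some 1 : GolayPt)

theorem two_trans {i i' j j' : GolayPt} (hi : i ∈ Rest) (hi' : i' ∈ Rest) (hj : j ∈ Rest) (hj' : j' ∈ Rest)
    (hii : i ≠ i') (hjj : j ≠ j') : ∃ σ : L, σ • i = j ∧ σ • i' = j' := by
  obtain ⟨σ, hσ, h⟩ := Cfsg.Agent.Leech.HSConfig.exists_perm_of_embedding Cfsg.Agent.S0366.result
    ![none, some 0, some 1, i, i'] ![none, some 0, some 1, j, j'] (by
      obtain ⟨h1, h2, h3⟩ := hi
      obtain ⟨h1', h2', h3'⟩ := hi'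
      intro x y hxy
      fin_cases x <;> fin_cases y <;> simp_all <;> exact absurd hxy (by decide)) (by
      obtain ⟨h1, h2, h3⟩ := hj
      obtain ⟨h1', h2', h3'⟩ := hj'
      intro x y hxy
      fin_cases x <;> fin_cases y <;> simp_all <;> exact absurd hxy (by decide))
  refine ⟨⟨⟨σ, ⟨⟨hσ, h 0⟩, h 1⟩⟩, h 2⟩, h 3, h 4⟩

theorem rest_smul (n : L) {i : GolayPt} (hi : i ∈ Rest) : n • i ∈ Rest := by
  have h0 : n • (none : GolayPt) = none := n.1.2.1.2
  have h1 : n • (some 0 : GolayPt) = some 0 := n.1.2.2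
  have h2 : n • (some 1 : GolayPt) = some 1 := n.2
  refine ⟨fun h => hi.1 ?_, fun h => hi.2.1 ?_, fun h => hi.2.2 ?_⟩
  · rw [← h0] at h
    exact smul_left_cancel n h
  · rw [← h1] at h
    exact smul_left_cancel n h
  · rw [← h2] at h
    exact smul_left_cancel n h

theorem dvd_card (N : Subgroup L) [hN : N.Normal] (hne : N ≠ ⊥) : 21 ∣ Nat.card N := by
  obtain ⟨n, hn1⟩ := Subgroup.ne_bot_iff_exists_ne_one.1 hne
  obtain ⟨i, hi⟩ : ∃ i : GolayPt, (n : L) • i ≠ i := by
    by_contra h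
    push Not at h
    apply hn1
    apply Subtype.ext
    apply Subtype.ext
    apply Subtype.ext
    exact Equiv.ext h
  have hir : i ∈ Rest := by
    refine ⟨?_, ?_, ?_⟩
    · rintro rfl
      exact hi (n : L).1.2.1.2
    · rintro rfl
      exact hi (n : L).1.2.2
    · rintro rfl
      exact hi (n : L).2
  have key : ∀ j ∈ Rest, ∀ j' ∈ Rest, ∃ m : N, m • j = j' := by
    intro j hj j' hj'
    by_cases h : j = j'
    · exact ⟨1, by rw [one_smul, h]⟩
    obtain ⟨σ, h1, h2⟩ := two_trans hir (rest_smul n hir) hj hj' hi.symm h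
    refine ⟨⟨σ * n * σ⁻¹, hN.conj_mem _ n.2 σ⟩, ?_⟩
    show (σ * n * σ⁻¹) • j = j'
    rw [mul_smul, mul_smul, ← h1, inv_smul_smul, h2]
  have horb : orbit N i = Rest := by
    ext j
    constructor
    · rintro ⟨m, rfl⟩
      exact rest_smul m hir
    · intro hj
      exact key i hir j hj
  have h3 : (orbit N i).ncard = 21 := by rw [horb, ncard_rest]
  rw [← h3, ← Nat.card_coe_set_eq]
  exact ⟨_, (Nat.card_congr (orbitEquivQuotientStabilizer N i)).symm ▸ (Subgroup.card_eq_card_quotient_mul_card_subgroup (stabilizer N i))⟩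

theorem rad_L : solvableRadical L = ⊥ := by
  by_contra h
  obtain ⟨q, hq, N, hN, hne, hp⟩ := exists_qgroup h
  have h1 := dvd_card N hne
  have : Fact q.Prime := ⟨hq⟩
  obtain ⟨k, hk⟩ := hp.exists_card_eq
  rw [hk] at h1
  have h2 : 3 = q := (Nat.prime_dvd_prime_iff_eq (by norm_num) hq).1
    (Nat.Prime.dvd_of_dvd_pow (by norm_num) ((show 3 ∣ 21 by norm_num).trans h1))
  have h3 : 7 = q := (Nat.prime_dvd_prime_iff_eq (by norm_num) hq).1
    (Nat.Prime.dvd_of_dvd_pow (by norm_num) ((show 7 ∣ 21 by norm_num).trans h1))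
  omega

theorem card_L : Nat.card L = 20160 := Cfsg.Agent.J4Type.Aut22.card_stab ⟨by decide, by decide⟩

theorem lw_m22 {p : ℕ} [hp : Fact p.Prime] (h : p ∣ 20160) : Lw p Spor.M22 := by
  refine ⟨L, ?_, ?_, ?_⟩
  · intro h1
    have h2 := card_L
    rw [h1, Subgroup.card_top, Cfsg.Agent.SporadicA.MathieuRecog.card_M22] at h2
    omega
  · rw [card_L]; exact h
  · have h2 : Nat.card (radIn L) = Nat.card (solvableRadical L) :=
      Subgroup.card_map_of_injective L.subtype_injective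
    rw [h2, rad_L, card_bot]
    exact fun h3 => hp.out.one_lt.ne' (Nat.dvd_one.1 h3)

/-- a smaller simple group among the permutation groups -/
theorem lw_of_le {p : ℕ} [hp : Fact p.Prime] {A B : Subgroup (Equiv.Perm GolayPt)} (hAB : A ≤ B) [IsSimpleGroup A] {a b : ℕ}
    (ha : Nat.card A = a) (hb : Nat.card B = b) (hab : a ≠ b) (hna : ¬ a.Prime) (h : p ∣ a) : Lw p B := by
  refine Lw.of_simple (Q := A) (not_solvable ha hna) (by rw [ha]; exact h) (Subgroup.inclusion hAB)
    (Subgroup.inclusion_injective hAB) fun hs => hab ?_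
  rw [← ha, ← hb]
  exact Nat.card_congr (Equiv.ofBijective _ ⟨Subgroup.inclusion_injective hAB, hs⟩)

/-! ### the rows -/

theorem noE_m12 {K : Type*} [Group K] [Finite K] [IsSimpleGroup K] (h : Cfsg.Spor.IsoM12 K) {p : ℕ} [Fact p.Prime]
    (hp : 5 ≤ p) (_hb : Cfsg.Agent.H301.SY.Blk p K) (_hO : Cfsg.Agent.H301.SY.ThO p K) :
    Cfsg.Agent.H301.SY.NoE p K := by
  obtain ⟨e⟩ := h
  refine NoE.congr e ?_
  have hc : Nat.card Spor.M12 = 95040 := Cfsg.Agent.MTwelveType.SylowModel.card_M12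
  by_cases hd : p ∣ 95040
  · have h1 := mem_of_dvd (Fact.out : p.Prime) [(2, 6), (3, 3), (5, 1), (11, 1)] (by norm_num) (by norm_num; exact hd)
    have := Cfsg.Agent.FooteOdd.SporMEleven.simple
    have h2 : p = 5 ∨ p = 11 := by
      simp at h1
      omega
    refine NoE.of_lw (cyclic_of_card ?_) (lw_of_le (A := Spor.M11) inf_le_left Cfsg.Agent.FooteOdd.SporMEleven.card hc
      (by norm_num) (by norm_num) ?_)
    · rw [hc]; rcases h2 with rfl | rfl <;> norm_num
    · rcases h2 with rfl | rfl <;> norm_num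
  · exact noE_of_not_dvd (by rw [hc]; exact hd)

theorem noE_m22 {K : Type*} [Group K] [Finite K] [IsSimpleGroup K] (h : Cfsg.Spor.IsoM22 K) {p : ℕ} [Fact p.Prime]
    (hp : 5 ≤ p) (hb : Cfsg.Agent.H301.SY.Blk p K) (hO : Cfsg.Agent.H301.SY.ThO p K) :
    Cfsg.Agent.H301.SY.NoE p K := by
  obtain ⟨e⟩ := h
  have hc : Nat.card Spor.M22 = 443520 := Cfsg.Agent.SporadicA.MathieuRecog.card_M22
  have hcK : Nat.card K = 443520 := by rw [Nat.card_congr e.toEquiv, hc]
  by_cases hd : p ∣ 443520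
  · have h1 := mem_of_dvd (Fact.out : p.Prime) [(2, 7), (3, 2), (5, 1), (7, 1), (11, 1)] (by norm_num)
      (by norm_num; exact hd)
    have h2 : (p = 5 ∨ p = 7) ∨ p = 11 := by
      simp at h1
      omega
    rcases h2 with h2 | rfl
    · refine NoE.congr e (NoE.of_lw (cyclic_of_card ?_) (lw_m22 ?_))
      · rw [hc]; rcases h2 with rfl | rfl <;> norm_num
      · rcases h2 with rfl | rfl <;> norm_num
    · have hcyc := cyclic_of_card (K := K) (p := 11) (by rw [hcK]; norm_num)
      refine NoE.of_m0 (not_comm hcK (by norm_num)) hcyc fun x hx hR hY => m0_num hcyc hb hO hx hR hY ?_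
      intro t ht _ htd
      left
      have h3 := mem_of_dvd ht [(2, 1), (5, 1)] (by norm_num) (by norm_num at htd ⊢; exact htd)
      have h4 : t = 2 ∨ t = 5 := by
        simp at h3
        omega
      rw [hcK]
      rcases h4 with rfl | rfl
      · exact no_pow (b := 7) (by norm_num) (by decide)
      · exact no_pow (b := 1) (by norm_num) (by decide)
  · exact noE_of_not_dvd (by rw [hcK]; exact hd)

theorem noE_m23 {K : Type*} [Group K] [Finite K] [IsSimpleGroup K] (h : Cfsg.Spor.IsoM23 K) {p : ℕ} [Fact p.Prime]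
    (hp : 5 ≤ p) (hb : Cfsg.Agent.H301.SY.Blk p K) (hO : Cfsg.Agent.H301.SY.ThO p K) :
    Cfsg.Agent.H301.SY.NoE p K := by
  obtain ⟨e⟩ := h
  have hc : Nat.card Spor.M23 = 10200960 := Cfsg.Agent.SporadicA.MathieuRecog.card_M23
  have hcK : Nat.card K = 10200960 := by rw [Nat.card_congr e.toEquiv, hc]
  by_cases hd : p ∣ 10200960
  · have h1 := mem_of_dvd (Fact.out : p.Prime) [(2, 7), (3, 2), (5, 1), (7, 1), (11, 1), (23, 1)] (by norm_num)
      (by norm_num; exact hd)
    have h2 : (p = 5 ∨ p = 7 ∨ p = 11) ∨ p = 23 := by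
      simp at h1
      omega
    rcases h2 with h2 | rfl
    · have := Cfsg.Agent.SporadicA.MathieuRecog.simple_M22
      refine NoE.congr e (NoE.of_lw (cyclic_of_card ?_) (lw_of_le (A := Spor.M22) inf_le_left
        Cfsg.Agent.SporadicA.MathieuRecog.card_M22 hc (by norm_num) (by norm_num) ?_))
      · rw [hc]; rcases h2 with rfl | rfl | rfl <;> norm_num
      · rcases h2 with rfl | rfl | rfl <;> norm_num
    · have hcyc := cyclic_of_card (K := K) (p := 23) (by rw [hcK]; norm_num)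
      refine NoE.of_m0 (not_comm hcK (by norm_num)) hcyc fun x hx hR hY => m0_num hcyc hb hO hx hR hY ?_
      intro t ht _ htd
      left
      have h3 := mem_of_dvd ht [(2, 1), (11, 1)] (by norm_num) (by norm_num at htd ⊢; exact htd)
      have h4 : t = 2 ∨ t = 11 := by
        simp at h3
        omega
      rw [hcK]
      rcases h4 with rfl | rfl
      · exact no_pow (b := 7) (by norm_num) (by decide)
      · exact no_pow (b := 1) (by norm_num) (by decide)
  · exact noE_of_not_dvd (by rw [hcK]; exact hd)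

theorem noE_m24 {K : Type*} [Group K] [Finite K] [IsSimpleGroup K] (h : Cfsg.Spor.IsoM24 K) {p : ℕ} [Fact p.Prime]
    (hp : 5 ≤ p) (_hb : Cfsg.Agent.H301.SY.Blk p K) (_hO : Cfsg.Agent.H301.SY.ThO p K) :
    Cfsg.Agent.H301.SY.NoE p K := by
  obtain ⟨e⟩ := h
  refine NoE.congr e ?_
  have hc : Nat.card M24 = 244823040 := Cfsg.Agent.SporadicA.M24Trans.card_M24
  by_cases hd : p ∣ 244823040
  · have h1 := mem_of_dvd (Fact.out : p.Prime) [(2, 10), (3, 3), (5, 1), (7, 1), (11, 1), (23, 1)] (by norm_num)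
      (by norm_num; exact hd)
    have := Cfsg.Agent.S2037.simple
    have h2 : p = 5 ∨ p = 7 ∨ p = 11 ∨ p = 23 := by
      simp at h1
      omega
    refine NoE.of_lw (cyclic_of_card ?_) (lw_of_le (A := Spor.M23) inf_le_left Cfsg.Agent.SporadicA.MathieuRecog.card_M23
      hc (by norm_num) (by norm_num) ?_)
    · rw [hc]; rcases h2 with rfl | rfl | rfl | rfl <;> norm_num
    · rcases h2 with rfl | rfl | rfl | rfl <;> norm_num
  · exact noE_of_not_dvd (by rw [hc]; exact hd)

end Cfsg.Agent.H621.SYMathieu
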