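import Cfsg.Agent.H621.SY.PslLw

/-!
# S3846, row `PSL_n(q)` (task 1514, helper621)
-/

set_option autoImplicit false

namespace Cfsg.Agent.H621.SYPsl

open Matrix Cfsg.Agent.H301.SY Cfsg.Agent.H459.Iface Cfsg.Agent.H459.Rad

/-- the case `p ≤ n + 1` is complete; in the case `n + 1 < p` the natural module of `SL_n(q)` is used -/
theorem crow_of {F : Type} [Field F] [Fintype F] {n r p : ℕ} [hr : Fact r.Prime] [hp' : Fact p.Prime] [CharP F r]
    (hp : 5 ≤ p)
    (hM : n + 1 < p → ∀ x : ProjectiveSpecialLinearGroup (Fin n) F, orderOf x = p →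
      (∀ P : Sylow p (ProjectiveSpecialLinearGroup (Fin n) F), IsCyclic (P : Subgroup (ProjectiveSpecialLinearGroup (Fin n) F))) →
        ¬ FixR r (MulAut.conj x) → M0 x) :
    CRow r p (ProjectiveSpecialLinearGroup (Fin n) F) := by
  intro x hx hR hP
  rcases Nat.lt_or_ge n p with h | h
  · rcases Nat.lt_or_ge (n + 1) p with h1 | h1
    · by_cases hF : FixR r (MulAut.conj x)
      · exact Or.inl hF
      · exact Or.inr (Or.inl (hM h1 x hx hP hF))
    · exact Or.inr (Or.inr (zc hp (by omega)))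
  · exact ((lw (F := F) hp h).false hx (RE.of_rc hR) hP).elim

end Cfsg.Agent.H621.SYPsl
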