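import Cfsg.Agent.H301.SY.Base
import Cfsg.Agent.S2470
import Cfsg.Agent.S2904
import Cfsg.Agent.S0243

/-!
# S3846, row `PSL_n(q)`: the alternating subgroup and the primitive prime divisors (helper621)
-/

set_option autoImplicit false

namespace Cfsg.Agent.H621.SYPsl

open Matrix Cfsg.Agent.H301.SY

variable {F : Type} [Field F] {n : ℕ}

/-- the permutation matrices -/
def perm (F : Type) [Field F] (n : ℕ) : alternatingGroup (Fin n) →* SpecialLinearGroup (Fin n) F where
  toFun σ := ⟨((σ : Equiv.Perm (Fin n))⁻¹).permMatrix F, by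
    rw [Matrix.det_permutation, Equiv.Perm.sign_inv, (Equiv.Perm.mem_alternatingGroup.1 σ.2)]
    simp⟩
  map_one' := by
    apply Subtype.ext
    simp
  map_mul' σ τ := by
    apply Subtype.ext
    show ((σ * τ : Equiv.Perm (Fin n))⁻¹).permMatrix F = _ * _
    rw [_root_.mul_inv_rev, Matrix.permMatrix_mul]

theorem perm_mulVec (σ : alternatingGroup (Fin n)) (v : Fin n → F) :
    (perm F n σ).1 *ᵥ v = fun i => v ((σ : Equiv.Perm (Fin n))⁻¹ i) := by
  ext i
  show (((σ : Equiv.Perm (Fin n))⁻¹).permMatrix F *ᵥ v) i = _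
  rw [Matrix.permMatrix_mulVec]
  rfl

/-- `A_n → PSL_n(F)` -/
def permP (F : Type) [Field F] (n : ℕ) : alternatingGroup (Fin n) →* ProjectiveSpecialLinearGroup (Fin n) F :=
  (QuotientGroup.mk' _).comp (perm F n)

theorem permP_inj : Function.Injective (permP F n) := by
  rw [injective_iff_map_eq_one]
  intro σ hσ
  have h1 : (perm F n σ) ∈ Subgroup.center (SpecialLinearGroup (Fin n) F) := (QuotientGroup.eq_one_iff _).1 hσ
  rw [Matrix.SpecialLinearGroup.mem_center_iff] at h1
  obtain ⟨c, -, h2⟩ := h1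
  apply Subtype.ext
  ext i
  have h3 : (perm F n σ).1 *ᵥ (Pi.single i 1) = c • Pi.single i 1 := by
    rw [← h2]
    ext j
    simp [Matrix.scalar_apply, Matrix.mulVec_diagonal]
  rw [perm_mulVec] at h3
  have h4 := congrFun h3 ((σ : Equiv.Perm (Fin n)) i)
  have h6 : ((σ : Equiv.Perm (Fin n)))⁻¹ ((σ : Equiv.Perm (Fin n)) i) = i := (σ : Equiv.Perm (Fin n)).symm_apply_apply i
  simp only [h6, Pi.single_eq_same, Pi.smul_apply, smul_eq_mul] at h4
  by_contra hcon
  have h5 : ((Pi.single i 1 : Fin n → F) ((σ : Equiv.Perm (Fin n)) i)) = 0 := by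
    rw [Pi.single_eq_of_ne]
    intro h
    exact hcon (by rw [h]; rfl)
  rw [h5, mul_zero] at h4
  exact one_ne_zero h4

theorem permP_not_surj (hn : 3 ≤ n) : ¬ Function.Surjective (permP F n) := by
  intro hs
  have h01 : (⟨0, by omega⟩ : Fin n) ≠ ⟨1, by omega⟩ := by simp
  obtain ⟨σ, hσ⟩ := hs (QuotientGroup.mk (SpecialLinearGroup.transvection h01 (1 : F)))
  have h1 : (perm F n σ)⁻¹ * SpecialLinearGroup.transvection h01 (1 : F) ∈
      Subgroup.center (SpecialLinearGroup (Fin n) F) := QuotientGroup.eq.1 hσ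
  rw [Matrix.SpecialLinearGroup.mem_center_iff] at h1
  obtain ⟨c, -, h2⟩ := h1
  have h3 : (SpecialLinearGroup.transvection h01 (1 : F)).1 *ᵥ (fun _ => (1 : F)) = fun _ => c := by
    have h4 : SpecialLinearGroup.transvection h01 (1 : F) =
        perm F n σ * ((perm F n σ)⁻¹ * SpecialLinearGroup.transvection h01 (1 : F)) := by group
    have h5 : (SpecialLinearGroup.transvection h01 (1 : F)).1 =
        (perm F n σ).1 * ((perm F n σ)⁻¹ * SpecialLinearGroup.transvection h01 (1 : F)).1 :=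
      congrArg Subtype.val h4
    rw [h5, ← h2, ← mulVec_mulVec]
    have h6 : (scalar (Fin n) c) *ᵥ (fun _ => (1 : F)) = fun _ => c := by
      ext j
      simp [Matrix.scalar_apply, Matrix.mulVec_diagonal]
    rw [h6, perm_mulVec]
  have h4 := congrFun h3 ⟨0, by omega⟩
  have h5 := congrFun h3 ⟨1, by omega⟩
  have h6 : (SpecialLinearGroup.transvection h01 (1 : F)).1 =
    1 + Matrix.single ⟨0, by omega⟩ ⟨1, by omega⟩ (1 : F) := rfl
  rw [h6, add_mulVec, one_mulVec] at h4 h5
  have h7 : (Matrix.single (⟨0, by omega⟩ : Fin n) (⟨1, by omega⟩ : Fin n) (1 : F) *ᵥ fun _ => (1 : F)) =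
      Pi.single ⟨0, by omega⟩ 1 := by
    ext j
    rw [Matrix.mulVec, dotProduct]
    simp only [Matrix.single_apply, mul_one]
    rw [Finset.sum_eq_single (⟨1, by omega⟩ : Fin n)]
    · by_cases hj : (⟨0, by omega⟩ : Fin n) = j
      · subst hj
        simp
      · rw [if_neg (fun h => hj h.1), Pi.single_eq_of_ne (fun h => hj h.symm)]
    · intro k _ hk
      rw [if_neg (fun h => hk h.2.symm)]
    · intro h
      exact absurd (Finset.mem_univ _) h
  rw [h7] at h4 h5
  simp only [Pi.add_apply, Pi.single_eq_same] at h4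
  rw [Pi.add_apply, Pi.single_eq_of_ne h01.symm, add_zero] at h5
  rw [← h5] at h4
  exact one_ne_zero (add_left_cancel (h4.trans (add_zero _).symm))

theorem lw {p : ℕ} [hp' : Fact p.Prime] [Finite F] (hp : 5 ≤ p) (hpn : p ≤ n) :
    Lw p (ProjectiveSpecialLinearGroup (Fin n) F) := by
  have hn5 : 5 ≤ n := by omega
  have hs : IsSimpleGroup (alternatingGroup (Fin n)) := alternatingGroup.isSimpleGroup (by
    rw [Nat.card_eq_fintype_card, Fintype.card_fin]; omega)
  have : Nontrivial (Fin n) := Fin.nontrivial_iff_two_le.2 (by omega)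
  have hcard : 2 * Nat.card (alternatingGroup (Fin n)) = n.factorial := by
    rw [Nat.card_eq_fintype_card, two_mul_card_alternatingGroup, Fintype.card_perm, Fintype.card_fin]
  refine Lw.of_simple (Q := alternatingGroup (Fin n)) ?_ ?_ (permP F n) permP_inj (permP_not_surj (by omega))
  · intro h
    have h1 := IsSimpleGroup.comm_iff_isSolvable.2 h
    have h2 := (alternatingGroup.isMulCommutative_iff_card_le_three (α := Fin n)).1 ⟨⟨h1⟩⟩
    rw [Nat.card_eq_fintype_card, Fintype.card_fin] at h2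
    omega
  · have h1 : p ∣ 2 * Nat.card (alternatingGroup (Fin n)) := by
      rw [hcard]
      exact (hp'.out.dvd_factorial).2 hpn
    rcases hp'.out.dvd_mul.1 h1 with h2 | h2
    · exact absurd (Nat.le_of_dvd (by norm_num) h2) (by omega)
    · exact h2

/-- the primitive prime divisors of `q ^ (n - 1) - 1` -/
theorem zc {r p : ℕ} [hr : Fact r.Prime] [hp' : Fact p.Prime] [Fintype F] [CharP F r] (hp : 5 ≤ p) (hpn : p = n + 1) :
    Zc r p (ProjectiveSpecialLinearGroup (Fin n) F) := by
  intro s hs hsp _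
  have hn4 : 4 ≤ n := by omega
  have hodd : Odd p := hp'.out.odd_of_ne_two (by omega)
  have hneven : Even n := by
    rcases Nat.even_or_odd n with h | h
    · exact h
    · exfalso
      rw [hpn] at hodd
      exact (Nat.not_even_iff_odd.2 hodd) h.add_one
  set q := Fintype.card F with hq
  have hq1 : 1 < q := Fintype.one_lt_card
  obtain ⟨w, hw, hwd, hwk⟩ := Cfsg.Agent.S2904.result q (n - 1) hq1 (by omega) (by
      rintro ⟨-, h⟩
      obtain ⟨k, hk⟩ := hneven
      omega) (by
      rintro ⟨h, -⟩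
      obtain ⟨k, hk⟩ := hneven
      omega)
  have hFw : Fact w.Prime := ⟨hw⟩
  -- the order of `q` modulo `w`
  have hcast : ∀ k : ℕ, ((q : ℕ) : ZMod w) ^ k = 1 ↔ w ∣ q ^ k - 1 := by
    intro k
    have h1 : 1 ≤ q ^ k := Nat.one_le_pow _ _ (by omega)
    rw [← ZMod.natCast_eq_zero_iff, Nat.cast_sub h1, Nat.cast_pow, Nat.cast_one, sub_eq_zero]
  have hord : orderOf ((q : ℕ) : ZMod w) = n - 1 := by
    have h1 : orderOf ((q : ℕ) : ZMod w) ∣ n - 1 := orderOf_dvd_of_pow_eq_one ((hcast _).2 hwd)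
    have h2 : 0 < orderOf ((q : ℕ) : ZMod w) := Nat.pos_of_dvd_of_pos h1 (by omega)
    have h3 : orderOf ((q : ℕ) : ZMod w) ≤ n - 1 := Nat.le_of_dvd (by omega) h1
    by_contra hne
    exact hwk _ h2 (by omega) ((hcast _).1 (pow_orderOf_eq_one _))
  have hqw : ((q : ℕ) : ZMod w) ≠ 0 := by
    intro h
    have h1 := (hcast (n - 1)).2 hwd
    rw [h, zero_pow (by omega)] at h1
    exact zero_ne_one h1
  have hdvd : n - 1 ∣ w - 1 := by
    rw [← hord]
    exact orderOf_dvd_of_pow_eq_one (ZMod.pow_card_sub_one_eq_one hqw)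
  have hw1 := hw.one_lt
  have hwr : w ≠ r := by
    intro h
    apply hqw
    rw [ZMod.natCast_eq_zero_iff, h]
    obtain ⟨k, hr', hk⟩ := FiniteField.card F r
    rw [hq, hk]
    exact dvd_pow_self r k.2.ne'
  have hwp : w ≠ p := by
    rintro rfl
    have h1 : w - 1 = n := by omega
    rw [h1] at hdvd
    have h2 : n - 1 ∣ n - (n - 1) := Nat.dvd_sub hdvd dvd_rfl
    have h3 := Nat.le_of_dvd (by omega) h2
    omega
  have hws : w ≠ s := by
    rintro rfl
    have h1 : p - 1 = n := by omega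
    rw [h1] at hsp
    have h2 := Nat.le_of_dvd (by omega) hsp
    have h3 := Nat.le_of_dvd (by omega) hdvd
    have h4 : w = n := by omega
    have h5 := (Nat.Prime.eq_two_or_odd' hw)
    rcases h5 with h5 | h5
    · omega
    · rw [h4] at h5
      exact (Nat.not_even_iff_odd.2 h5) hneven
  have hw2 : w ≠ 2 := by
    intro h
    have h3 := Nat.le_of_dvd (by omega) hdvd
    omega
  have hwG : w ∣ Nat.card (ProjectiveSpecialLinearGroup (Fin n) F) := by
    have h1 := Cfsg.Agent.S0243.result (F := F) rfl n (by omega)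
    have h2 : w ∣ ∏ i : Fin n, (Fintype.card F ^ n - Fintype.card F ^ (i : ℕ)) := by
      have h3 : q ^ n - q ^ 1 = q * (q ^ (n - 1) - 1) := by
        rw [Nat.mul_sub, mul_one, pow_one, ← pow_succ']
        congr 2
        omega
      refine Dvd.dvd.trans ?_ (Finset.dvd_prod_of_mem _ (Finset.mem_univ (⟨1, by omega⟩ : Fin n)))
      show w ∣ q ^ n - q ^ 1
      rw [h3]
      exact hwd.mul_left _
    rw [← h1] at h2
    have h4 : ¬ w ∣ q - 1 := by
      have := hwk 1 (by norm_num) (by omega)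
      rwa [pow_one] at this
    rcases hw.dvd_mul.1 h2 with h3 | h3
    · exact absurd (h3.trans (Nat.gcd_dvd_right _ _)) h4
    · rcases hw.dvd_mul.1 h3 with h5 | h5
      · exact absurd h5 h4
      · exact h5
  have hno := (Cfsg.Agent.S2470.result (F := F) r n (by omega) (by omega) w hw hw2 hwr hwG (n - 1) hord.symm).2
    (Or.inl (by omega))
  obtain ⟨z, hz⟩ := exists_prime_orderOf_dvd_card' w hwG
  refine ⟨z, ?_, ?_, ?_⟩
  · rintro rfl
    rw [orderOf_one] at hz
    omega
  · intro hd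
    obtain ⟨v, hv⟩ := exists_prime_orderOf_dvd_card' r hd
    apply hno
    refine ⟨z * v, ?_⟩
    have hv' : orderOf (v : ProjectiveSpecialLinearGroup (Fin n) F) = r := by rw [Subgroup.orderOf_coe]; exact hv
    have hcomm : Commute z (v : ProjectiveSpecialLinearGroup (Fin n) F) :=
      (Subgroup.mem_centralizer_iff.1 v.2) z (Set.mem_singleton z)
    rw [hcomm.orderOf_mul_eq_mul_orderOf_of_coprime (by
      rw [hz, hv']
      exact (Nat.coprime_primes hw hr.out).2 hwr), hz, hv']
  · rw [hz]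
    exact Nat.Coprime.mul_right ((Nat.coprime_primes hw hp'.out).2 hwp) ((Nat.coprime_primes hw hs).2 hws)

end Cfsg.Agent.H621.SYPsl
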